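import Groth.Agent.CTensorRed.PowerSeries
import Groth.Prelude.Def_EGA4c
import Groth.Agent.AdicLim.Noetherian
import Groth.Agent.S9604
import Groth.Agent.FormalFibre.Completion
import Mathlib.RingTheory.Unramified.Field
import Mathlib.RingTheory.Unramified.Basic

/-!
# The completed tensor product and `B[[x]] ⊗ A`
-/

universe u

open IsLocalRing MvPowerSeries TensorProduct
open Algebra.TensorProduct (includeLeft includeRight)

namespace Groth.Agent.CTensorRed

variable (k A B : Type u) [Field k] [CommRing A] [CommRing B] [Algebra k A] [Algebra k B]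
  [IsLocalRing A] [IsLocalRing B] [IsNoetherianRing B] [IsAdicComplete (maximalIdeal B) B]
  {d : ℕ} [Algebra (MvPowerSeries (Fin d) k) A] [IsScalarTower k (MvPowerSeries (Fin d) k) A]
  [Module.Finite (MvPowerSeries (Fin d) k) A]

/-- `B[[x]] ⊗_{k[[x]]} A`. -/
abbrev Model (k A B : Type u) [Field k] [CommRing A] [CommRing B] [Algebra k B] (d : ℕ)
    [Algebra (MvPowerSeries (Fin d) k) A] : Type u :=
  MvPowerSeries (Fin d) B ⊗[MvPowerSeries (Fin d) k] A

local notation "R" => MvPowerSeries (Fin d) k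
local notation "T" => MvPowerSeries (Fin d) B

instance isScalarTower_powerSeries : IsScalarTower k (MvPowerSeries (Fin d) k) (MvPowerSeries (Fin d) B) :=
  IsScalarTower.of_algebraMap_eq fun c => by
    simp [MvPowerSeries.algebraMap_apply, MvPowerSeries.algebraMap_apply'', MvPowerSeries.map_C]

/-- `A ⊗_k B → B[[x]] ⊗_{k[[x]]} A`. -/
noncomputable def toModel : A ⊗[k] B →ₐ[k] Model k A B d :=
  Algebra.TensorProduct.lift
    (((includeRight : A →ₐ[R] T ⊗[R] A)).restrictScalars k)
    (((includeLeft : T →ₐ[R] T ⊗[R] A).restrictScalars k).comp (IsScalarTower.toAlgHom k B T))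
    fun _ _ => Commute.all _ _

theorem toModel_tmul (a : A) (b : B) : toModel k A B (d := d) (a ⊗ₜ b) = (C b : T) ⊗ₜ a := by
  rw [toModel, Algebra.TensorProduct.lift_tmul]
  simp [MvPowerSeries.algebraMap_apply]

theorem isAdicComplete_of_pow_eq_bot {Q : Type u} [CommRing Q] (I : Ideal Q) {n : ℕ} (hn : I ^ n = ⊥) :
    IsAdicComplete I Q := by
  have hz : ∀ j, n ≤ j → (I ^ j • ⊤ : Submodule Q Q) = ⊥ := fun j hj => by
    rw [smul_eq_mul, Ideal.mul_top]
    exact le_bot_iff.mp ((Ideal.pow_le_pow_right hj).trans hn.le)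
  refine { haus' := fun x hx => ?_, prec' := fun f hf => ⟨f n, fun j => ?_⟩ }
  · have := hx n
    rwa [SModEq.sub_mem, hz n le_rfl, Submodule.mem_bot, sub_zero] at this
  · rcases le_total j n with h | h
    · exact hf h
    · have := hf h
      rw [SModEq.sub_mem, hz n le_rfl, Submodule.mem_bot, sub_eq_zero] at this
      rw [this]

/-- Uniqueness of maps to the quotient by a power of an ideal. -/
theorem ringHom_ext_quotient {S : Type u} [CommRing S] (J : Ideal S) (n : ℕ) {B' : Type u} [CommRing B'] {e : ℕ}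
    (f g : MvPowerSeries (Fin e) B' →+* S ⧸ J ^ n) (hC : ∀ c, f (C c) = g (C c)) (hX : ∀ i, f (X i) = g (X i))
    (hI : ∀ i, f (X i) ∈ J.map (Ideal.Quotient.mk (J ^ n))) : f = g := by
  have h : (J.map (Ideal.Quotient.mk (J ^ n))) ^ n = ⊥ := by
    rw [← Ideal.map_pow]; exact Ideal.map_quotient_self _
  have : IsAdicComplete (J.map (Ideal.Quotient.mk (J ^ n))) (S ⧸ J ^ n) := isAdicComplete_of_pow_eq_bot _ h
  exact ringHom_ext _ f g hC hX hI

variable (d) in
theorem exists_injective (hX : ∀ i, algebraMap R A (X i) ∈ maximalIdeal A) :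
    (∃ Ψ : EGA4.CTensor k A B →+* Model k A B d, Function.Injective Ψ) ∧
      ∃ G : Model k A B d →+* EGA4.CTensor k A B, Function.Injective G := by
  classical
  set φ : A ⊗[k] B →+* Model k A B d := (toModel k A B).toRingHom with hφdef
  have hφ : ∀ a b, φ (a ⊗ₜ b) = (C b : T) ⊗ₜ a := toModel_tmul k A B
  set M := EGA4.cTensorIdeal k A B with hMdef
  let ι : T →+* Model k A B d := (includeLeft : T →ₐ[R] T ⊗[R] A).toRingHom
  set J := M.map φ with hJdef
  set J₀ := (maximalIdeal T).map ι with hJ₀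
  have hMA : ∀ a ∈ maximalIdeal A, a ⊗ₜ[k] (1 : B) ∈ M := fun a ha =>
    Ideal.mem_sup_left (Ideal.mem_map_of_mem (includeLeft : A →ₐ[k] A ⊗[k] B) ha)
  have hMB : ∀ b ∈ maximalIdeal B, (1 : A) ⊗ₜ[k] b ∈ M := fun b hb =>
    Ideal.mem_sup_right (Ideal.mem_map_of_mem (includeRight : B →ₐ[k] A ⊗[k] B) hb)
  have hXi : ∀ i, ι (X i) = φ (algebraMap R A (X i) ⊗ₜ 1) := fun i => by
    rw [hφ, map_one, Algebra.algebraMap_eq_smul_one, ← TensorProduct.smul_tmul, Algebra.smul_def, mul_one]
    show (X i : T) ⊗ₜ (1 : A) = _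
    rw [MvPowerSeries.algebraMap_apply'', MvPowerSeries.map_X]
  have hJle : J₀ ≤ J := by
    refine Ideal.map_le_iff_le_comap.mpr (maximalIdeal_eq_sup.le.trans (sup_le ?_ (Ideal.span_le.mpr ?_)))
    · refine Ideal.map_le_iff_le_comap.mpr fun b hb => ?_
      show ι (C b) ∈ J
      rw [show ι (C b) = φ (1 ⊗ₜ b) from (hφ 1 b).symm]
      exact Ideal.mem_map_of_mem φ (hMB b hb)
    · rintro _ ⟨i, rfl⟩
      show ι (X i) ∈ J
      rw [hXi]
      exact Ideal.mem_map_of_mem φ (hMA _ (hX i))
  -- powers of the maximal ideal of `A` lie in the ideal of the variables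
  have hArad : maximalIdeal A ≤ ((Ideal.span (Set.range X)).map (algebraMap R A)).radical := by
    rw [Ideal.radical_eq_sInf]
    refine le_sInf fun P ⟨hP, hPp⟩ => ?_
    have hle : maximalIdeal R ≤ P.comap (algebraMap R A) := by
      rw [maximalIdeal_eq_sup, IsLocalRing.maximalIdeal_eq_bot, Ideal.map_bot, bot_sup_eq]
      exact Ideal.le_comap_map.trans (Ideal.comap_mono hP)
    have hmax : (P.comap (algebraMap R A)).IsMaximal :=
      (maximalIdeal.isMaximal R).eq_of_le (Ideal.IsPrime.comap _).ne_top hle ▸ maximalIdeal.isMaximal R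
    exact (IsLocalRing.eq_maximalIdeal (Ideal.isMaximal_of_isIntegral_of_isMaximal_comap P hmax)).ge
  have hJrad : J ≤ J₀.radical := by
    refine Ideal.map_le_iff_le_comap.mpr (sup_le (Ideal.map_le_iff_le_comap.mpr fun a ha => ?_)
      (Ideal.map_le_iff_le_comap.mpr fun b hb => ?_))
    · obtain ⟨N, hN⟩ := hArad ha
      refine ⟨N, ?_⟩
      show (φ (a ⊗ₜ 1)) ^ N ∈ J₀
      have hle : (Ideal.span (Set.range X)).map (algebraMap R A) ≤
          J₀.comap (includeRight : A →ₐ[R] T ⊗[R] A).toRingHom := by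
        rw [Ideal.map_span, Ideal.span_le]
        rintro _ ⟨_, ⟨i, rfl⟩, rfl⟩
        show (1 : T) ⊗ₜ[R] algebraMap R A (X i) ∈ J₀
        rw [← map_one (C : B →+* T), ← hφ, ← hXi]
        refine Ideal.mem_map_of_mem ι ?_
        rw [maximalIdeal_eq_sup]
        exact Ideal.mem_sup_right (Ideal.subset_span ⟨i, rfl⟩)
      rw [hφ, map_one, Algebra.TensorProduct.tmul_pow, one_pow]
      exact hle hN
    · refine Ideal.le_radical ?_
      show φ ((1 : A) ⊗ₜ b) ∈ J₀
      rw [hφ]
      refine Ideal.mem_map_of_mem ι ?_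
      rw [maximalIdeal_eq_sup]
      exact Ideal.mem_sup_left (Ideal.mem_map_of_mem C hb)
  -- completeness of the model
  have hTc := isAdicComplete_maximalIdeal (B := B) (d := d)
  have : IsNoetherianRing (Model k A B d) := IsNoetherianRing.of_finite T _
  have hJ₀c : IsAdicComplete J₀ (Model k A B d) :=
    (IsAdicComplete.map_algebraMap_iff ..).mpr (AdicLim.isAdicComplete_of_finite (A := T) (Model k A B d))
  obtain ⟨N, hN⟩ := Ideal.exists_pow_le_of_le_radical_of_fg hJrad (IsNoetherian.noetherian _)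
  have hJc : IsAdicComplete J (Model k A B d) :=
    (S9604.result J₀ J 1 (N + 1) one_pos N.succ_pos (by rw [pow_one]; exact hJle)
      ((Ideal.pow_le_pow_right N.le_succ).trans hN) _).mp hJ₀c
  -- maps between the truncations
  let Fn : ∀ n, (A ⊗[k] B) ⧸ M ^ n →+* Model k A B d ⧸ J ^ n := fun n =>
    Ideal.quotientMap _ φ (Ideal.map_le_iff_le_comap.mp (Ideal.map_pow φ M n).le)
  have hFn : ∀ n x, Fn n (Ideal.Quotient.mk _ x) = Ideal.Quotient.mk _ (φ x) := fun n x => Ideal.quotientMap_mk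
  have hG : ∀ n, ∃ G : Model k A B d →+* (A ⊗[k] B) ⧸ M ^ n,
      (∀ x, G (φ x) = Ideal.Quotient.mk _ x) ∧ ∀ x, Fn n (G x) = Ideal.Quotient.mk _ x := by
    intro n
    let f₀ : A →+* (A ⊗[k] B) ⧸ M ^ n := (Ideal.Quotient.mk _).comp (includeLeft : A →ₐ[k] A ⊗[k] B).toRingHom
    let g₀ : B →+* (A ⊗[k] B) ⧸ M ^ n := (Ideal.Quotient.mk _).comp (includeRight : B →ₐ[k] A ⊗[k] B).toRingHom
    let I := M.map (Ideal.Quotient.mk (M ^ n))
    have hI : I ^ n = ⊥ := by rw [← Ideal.map_pow]; exact Ideal.map_quotient_self _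
    have : IsAdicComplete I ((A ⊗[k] B) ⧸ M ^ n) := isAdicComplete_of_pow_eq_bot I hI
    have ha : ∀ i, f₀ (algebraMap R A (X i)) ∈ I := fun i => Ideal.mem_map_of_mem _ (hMA _ (hX i))
    let g : T →+* (A ⊗[k] B) ⧸ M ^ n := CohenStruct.evalPS I g₀ (fun i => f₀ (algebraMap R A (X i))) ha
    have hgC : ∀ b, g (C b) = g₀ b := CohenStruct.evalPS_C _ _ _ ha
    have hgX : ∀ i, g (X i) = f₀ (algebraMap R A (X i)) := CohenStruct.evalPS_X _ _ _ ha
    have hcompat : g.comp (algebraMap R T) = f₀.comp (algebraMap R A) := by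
      refine ringHom_ext I _ _ (fun c => ?_) (fun i => ?_) fun i => ?_
      · rw [RingHom.comp_apply, RingHom.comp_apply, MvPowerSeries.algebraMap_apply'', map_C, hgC,
          show (C c : R) = algebraMap k R c by rw [MvPowerSeries.algebraMap_apply]; rfl,
          ← IsScalarTower.algebraMap_apply]
        show Ideal.Quotient.mk _ _ = Ideal.Quotient.mk _ _
        congr 1
        show (1 : A) ⊗ₜ[k] algebraMap k B c = algebraMap k A c ⊗ₜ[k] (1 : B)
        rw [Algebra.algebraMap_eq_smul_one, Algebra.algebraMap_eq_smul_one, TensorProduct.tmul_smul,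
          TensorProduct.smul_tmul', ]
      · rw [RingHom.comp_apply, RingHom.comp_apply, MvPowerSeries.algebraMap_apply'', map_X, hgX]
      · rw [RingHom.comp_apply, MvPowerSeries.algebraMap_apply'', map_X, hgX]
        exact ha i
    let G : Model k A B d →+* (A ⊗[k] B) ⧸ M ^ n := (Algebra.TensorProduct.lift
      ({ g with commutes' := fun r => RingHom.congr_fun hcompat r } : T →ₐ[R] (A ⊗[k] B) ⧸ M ^ n)
      ({ f₀ with commutes' := fun r => rfl } : A →ₐ[R] (A ⊗[k] B) ⧸ M ^ n)
      fun _ _ => Commute.all _ _).toRingHom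
    have hGt : ∀ t a, G (t ⊗ₜ a) = g t * f₀ a := fun t a => rfl
    have hGφ : ∀ x, G (φ x) = Ideal.Quotient.mk _ x := fun x => by
      induction x with
      | zero => simp
      | add x y hx hy => rw [map_add, map_add, map_add, hx, hy]
      | tmul a b =>
        rw [hφ, hGt, hgC, mul_comm]
        show Ideal.Quotient.mk _ (a ⊗ₜ[k] (1 : B)) * Ideal.Quotient.mk _ ((1 : A) ⊗ₜ[k] b) = _
        rw [← map_mul, Algebra.TensorProduct.tmul_mul_tmul, one_mul, mul_one]
    refine ⟨G, hGφ, fun x => ?_⟩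
    have hT : ((Fn n).comp G).comp ι = (Ideal.Quotient.mk (J ^ n)).comp ι := by
      refine ringHom_ext_quotient J n _ _ (fun b => ?_) (fun i => ?_) fun i => ?_
      · simp only [RingHom.comp_apply]
        rw [show ι (C b) = φ (1 ⊗ₜ b) from (hφ 1 b).symm, hGφ, hFn]
      · simp only [RingHom.comp_apply]
        rw [hXi, hGφ, hFn]
      · simp only [RingHom.comp_apply]
        rw [hXi, hGφ, hFn]
        exact Ideal.mem_map_of_mem _ (Ideal.mem_map_of_mem φ (hMA _ (hX i)))
    induction x using TensorProduct.induction_on with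
    | zero => simp
    | add x y hx hy => rw [map_add, map_add, map_add, hx, hy]
    | tmul t a =>
      have hta : t ⊗ₜ[R] a = ι t * φ (a ⊗ₜ 1) := by
        rw [hφ, map_one]
        show _ = (t ⊗ₜ[R] (1 : A)) * ((1 : T) ⊗ₜ[R] a)
        rw [Algebra.TensorProduct.tmul_mul_tmul, mul_one, one_mul]
      rw [hta, map_mul, map_mul, map_mul, hGφ, hFn]
      congr 1
      exact RingHom.congr_fun hT t
  choose G hGφ hFG using hG
  have hcompat : ∀ {a c : ℕ} (hle : a ≤ c), (Ideal.Quotient.factorPow M hle).comp (G c) = G a := by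
    intro a c hle
    refine RingHom.ext fun x => ?_
    -- it suffices to check on the generators
    let I := M.map (Ideal.Quotient.mk (M ^ a))
    have : IsAdicComplete I ((A ⊗[k] B) ⧸ M ^ a) :=
      isAdicComplete_of_pow_eq_bot I (n := a) (by rw [← Ideal.map_pow]; exact Ideal.map_quotient_self _)
    have hT : ((Ideal.Quotient.factorPow M hle).comp (G c)).comp ι = (G a).comp ι := by
      refine ringHom_ext I _ _ (fun b => ?_) (fun i => ?_) fun i => ?_
      · simp only [RingHom.comp_apply]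
        rw [show ι (C b) = φ (1 ⊗ₜ b) from (hφ 1 b).symm, hGφ, hGφ, Ideal.Quotient.factor_mk]
      · simp only [RingHom.comp_apply]
        rw [hXi, hGφ, hGφ, Ideal.Quotient.factor_mk]
      · simp only [RingHom.comp_apply]
        rw [hXi, hGφ, Ideal.Quotient.factor_mk]
        exact Ideal.mem_map_of_mem _ (hMA _ (hX i))
    induction x using TensorProduct.induction_on with
    | zero => simp
    | add x y hx hy => rw [map_add, map_add, hx, hy]
    | tmul t a' =>
      have hta : t ⊗ₜ[R] a' = ι t * φ (a' ⊗ₜ 1) := by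
        rw [hφ, map_one]
        show _ = (t ⊗ₜ[R] (1 : A)) * ((1 : T) ⊗ₜ[R] a')
        rw [Algebra.TensorProduct.tmul_mul_tmul, mul_one, one_mul]
      rw [hta, map_mul, map_mul, RingHom.comp_apply (x := φ _), hGφ, hGφ, Ideal.Quotient.factor_mk]
      congr 1
      exact RingHom.congr_fun hT t
  constructor
  · let f : ∀ n, EGA4.CTensor k A B →+* Model k A B d ⧸ J ^ n := fun n =>
      (Fn n).comp (AdicCompletion.evalₐ M n).toRingHom
    have hf : ∀ {a c : ℕ} (hle : a ≤ c), (Ideal.Quotient.factorPow J hle).comp (f c) = f a := fun {a c} hle => by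
      refine RingHom.ext fun z => ?_
      obtain ⟨w, hw⟩ := Ideal.Quotient.mk_surjective (AdicCompletion.evalₐ M c z)
      have h1 : AdicCompletion.evalₐ M a z = Ideal.Quotient.mk _ w := by
        rw [← FormalFibre.factor_evalₐ M hle z, ← hw, Ideal.Quotient.factor_mk]
      simp only [f, RingHom.comp_apply, AlgHom.toRingHom_eq_coe, RingHom.coe_coe]
      rw [← hw, h1, hFn, hFn]
      exact Ideal.Quotient.factor_mk (Ideal.pow_le_pow_right hle) _
    refine ⟨IsAdicComplete.liftRingHom J f hf, (injective_iff_map_eq_zero _).mpr fun z hz => ?_⟩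
    refine AdicCompletion.ext_evalₐ fun n => ?_
    have h1 := IsAdicComplete.mk_liftRingHom J f hf n z
    rw [hz, map_zero] at h1
    obtain ⟨w, hw⟩ := Ideal.Quotient.mk_surjective (AdicCompletion.evalₐ M n z)
    have h2 : φ w ∈ J ^ n := by
      rw [← Ideal.Quotient.eq_zero_iff_mem, ← hFn, hw]
      exact h1.symm
    have h3 : J ^ n ≤ RingHom.ker (G n) := by
      rw [hJdef, ← Ideal.map_pow, Ideal.map_le_iff_le_comap]
      intro x hx
      rw [Ideal.mem_comap, RingHom.mem_ker, hGφ]
      exact Ideal.Quotient.eq_zero_iff_mem.mpr hx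
    rw [map_zero, ← hw, ← hGφ]
    exact h3 h2
  · refine ⟨AdicCompletion.liftRingHom M G hcompat, (injective_iff_map_eq_zero _).mpr fun x hx => ?_⟩
    refine IsHausdorff.haus' (I := J) x fun n => ?_
    rw [SModEq.sub_mem, sub_zero, smul_eq_mul, Ideal.mul_top, ← Ideal.Quotient.eq_zero_iff_mem, ← hFG,
      ← AdicCompletion.evalₐ_liftRingHom M G hcompat n x, hx, map_zero, map_zero]

end Groth.Agent.CTensorRed
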