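import Groth.Agent.CohenStruct.PowerSeries
import Mathlib.RingTheory.Flat.EquationalCriterion
import Mathlib.RingTheory.AdicCompletion.Completeness

/-!
# Power series over a complete local ring: completeness, flatness over `k[[x]]`, uniqueness of maps
-/

universe u v

open IsLocalRing MvPowerSeries

namespace Groth.Agent.CTensorRed

variable {B : Type u} [CommRing B] {d : ℕ}

theorem exists_decomp_X (f : MvPowerSeries (Fin d) B) (hf : constantCoeff f = 0) :
    ∃ g : Fin d → MvPowerSeries (Fin d) B, f = ∑ i, X i * g i ∧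
      ∀ (i : Fin d) (m : Fin d →₀ ℕ), coeff m (g i) = 0 ∨ coeff m (g i) = coeff (m + Finsupp.single i 1) f := by
  classical
  -- split each monomial by the first variable occurring in it
  let g : Fin d → MvPowerSeries (Fin d) B := fun i m =>
    if ∀ j < i, m j = 0 then coeff (m + Finsupp.single i 1) f else 0
  have hg : ∀ i m, coeff m (g i) = if ∀ j < i, m j = 0 then coeff (m + Finsupp.single i 1) f else 0 :=
    fun _ _ => rfl
  refine ⟨g, MvPowerSeries.ext fun m => ?_, fun i m => ?_⟩
  · rw [map_sum]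
    have hterm : ∀ i, coeff m (X i * g i) =
        if m i ≠ 0 ∧ ∀ j < i, m j = 0 then coeff m f else 0 := by
      intro i
      rw [X_def, coeff_monomial_mul, one_mul]
      by_cases hi : m i = 0
      · rw [if_neg (fun h => by simpa [hi] using h i), if_neg (fun h => h.1 hi)]
      · have hle : Finsupp.single i 1 ≤ m := Finsupp.single_le_iff.mpr (Nat.one_le_iff_ne_zero.mpr hi)
        have hsub : ∀ j < i, (m - Finsupp.single i 1 : Fin d →₀ ℕ) j = m j := fun j hj => by
          rw [Finsupp.tsub_apply, Finsupp.single_eq_of_ne (ne_of_lt hj), Nat.sub_zero]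
        rw [if_pos hle, hg, tsub_add_cancel_of_le hle]
        refine if_congr ⟨fun h => ⟨hi, fun j hj => (hsub j hj) ▸ h j hj⟩, fun h j hj => ?_⟩ rfl rfl
        rw [hsub j hj, h.2 j hj]
    simp only [hterm]
    rcases eq_or_ne m 0 with rfl | hm
    · simp [coeff_zero_eq_constantCoeff_apply, hf]
    · have hne : (Finset.univ.filter fun i => m i ≠ 0).Nonempty := by
        obtain ⟨i, hi⟩ := Finsupp.ne_iff.mp hm
        exact ⟨i, by simpa using hi⟩
      set i₀ := Finset.min' _ hne
      have hi₀ : m i₀ ≠ 0 := (Finset.mem_filter.mp (Finset.min'_mem _ hne)).2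
      have hlt : ∀ j < i₀, m j = 0 := fun j hj => by
        by_contra h
        exact not_le.mpr hj (Finset.min'_le _ j (Finset.mem_filter.mpr ⟨Finset.mem_univ _, h⟩))
      rw [Finset.sum_eq_single i₀ (fun j _ hj => if_neg fun h => ?_) (by simp), if_pos ⟨hi₀, hlt⟩]
      rcases lt_or_gt_of_ne hj with hl | hl
      · exact h.1 (hlt j hl)
      · exact hi₀ (h.2 i₀ hl)
  · rw [hg]
    split_ifs
    exacts [Or.inr rfl, Or.inl rfl]

theorem mem_span_X_pow_of_coeff (N : ℕ) (f : MvPowerSeries (Fin d) B)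
    (h : ∀ m : Fin d →₀ ℕ, m.degree < N → coeff m f = 0) :
    f ∈ Ideal.span (Set.range (X : Fin d → MvPowerSeries (Fin d) B)) ^ N := by
  induction N generalizing f with
  | zero => simp
  | succ N ih =>
    have h0 : constantCoeff f = 0 := by
      rw [← coeff_zero_eq_constantCoeff_apply]
      exact h 0 (by simp)
    obtain ⟨g, hfg, hg⟩ := exists_decomp_X f h0
    rw [hfg, pow_succ']
    refine Submodule.sum_mem _ fun i _ => Ideal.mul_mem_mul (Ideal.subset_span ⟨i, rfl⟩) (ih _ fun m hm => ?_)
    rcases hg i m with h1 | h1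
    · exact h1
    · rw [h1]
      refine h _ ?_
      rw [map_add, Finsupp.degree_single]
      omega

theorem exists_polynomial_sub_mem (N : ℕ) (f : MvPowerSeries (Fin d) B) :
    ∃ p : MvPolynomial (Fin d) B, f - (p : MvPowerSeries (Fin d) B) ∈
      Ideal.span (Set.range (X : Fin d → MvPowerSeries (Fin d) B)) ^ N := by
  refine ⟨truncTotal N f, mem_span_X_pow_of_coeff N _ fun m hm => ?_⟩
  rw [map_sub, MvPolynomial.coeff_coe, coeff_truncTotal _ hm, sub_self]

/-- Ring maps out of a power series ring into a separated ring are determined by constants and variables. -/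
theorem ringHom_ext {Q : Type v} [CommRing Q] (I : Ideal Q) [IsHausdorff I Q]
    (f g : MvPowerSeries (Fin d) B →+* Q) (hC : ∀ c, f (C c) = g (C c)) (hX : ∀ i, f (X i) = g (X i))
    (hI : ∀ i, f (X i) ∈ I) : f = g := by
  refine RingHom.ext fun s => (IsHausdorff.eq_iff_smodEq (I := I)).mpr fun N => ?_
  rw [SModEq.sub_mem, smul_eq_mul, Ideal.mul_top]
  obtain ⟨p, hp⟩ := exists_polynomial_sub_mem N s
  have hpoly : f.comp (MvPolynomial.coeToMvPowerSeries.ringHom) =
      g.comp (MvPolynomial.coeToMvPowerSeries.ringHom) :=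
    MvPolynomial.ringHom_ext (fun c => by simpa using hC c) fun i => by simpa using hX i
  have hp' : f (p : MvPowerSeries (Fin d) B) = g p := RingHom.congr_fun hpoly p
  have hmap : ∀ h : MvPowerSeries (Fin d) B →+* Q, (∀ i, h (X i) ∈ I) →
      h (s - (p : MvPowerSeries (Fin d) B)) ∈ I ^ N := fun h hh => by
    refine Ideal.pow_right_mono (Ideal.map_le_iff_le_comap.mpr (Ideal.span_le.mpr ?_)) N
      (Ideal.map_pow h (Ideal.span (Set.range X)) N ▸ Ideal.mem_map_of_mem h hp)
    rintro _ ⟨i, rfl⟩
    exact hh i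
  have := sub_mem (hmap f hI) (hmap g fun i => hX i ▸ hI i)
  rwa [map_sub, map_sub, hp', sub_sub_sub_cancel_right] at this

theorem mem_map_C_iff {I : Ideal B} (hI : I.FG) {f : MvPowerSeries (Fin d) B} :
    f ∈ I.map (C : B →+* MvPowerSeries (Fin d) B) ↔ ∀ m, coeff m f ∈ I := by
  classical
  constructor
  · intro hf m
    rw [Ideal.map] at hf
    induction hf using Submodule.span_induction generalizing m with
    | mem x hx =>
      obtain ⟨c, hc, rfl⟩ := hx
      rw [coeff_C]
      split_ifs
      exacts [hc, I.zero_mem]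
    | zero => simp
    | add x y _ _ hx hy => rw [map_add]; exact add_mem (hx m) (hy m)
    | smul a x _ hx =>
      rw [smul_eq_mul, coeff_mul]
      exact Submodule.sum_mem _ fun q _ => I.mul_mem_left _ (hx q.2)
  · intro hf
    obtain ⟨n, a, rfl⟩ := Submodule.fg_iff_exists_fin_generating_family.mp hI
    have hc : ∀ m, ∃ c : Fin n → B, ∑ j, c j * a j = coeff m f := fun m =>
      Ideal.mem_span_range_iff_exists_fun.mp (hf m)
    choose c hc using hc
    let g : Fin n → MvPowerSeries (Fin d) B := fun j m => c m j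
    have hfg : f = ∑ j, C (a j) * g j := MvPowerSeries.ext fun m => by
      rw [map_sum, ← hc]
      refine Finset.sum_congr rfl fun j _ => ?_
      rw [coeff_C_mul, mul_comm]
      rfl
    rw [hfg]
    exact Submodule.sum_mem _ fun j _ =>
      Ideal.mul_mem_right _ _ (Ideal.mem_map_of_mem _ (Submodule.subset_span ⟨j, rfl⟩))

variable [IsLocalRing B] [IsNoetherianRing B]

theorem isPrecomplete_map_C [IsAdicComplete (maximalIdeal B) B] :
    IsPrecomplete ((maximalIdeal B).map (C : B →+* MvPowerSeries (Fin d) B)) (MvPowerSeries (Fin d) B) := by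
  refine ⟨fun f hf => ?_⟩
  have hmem : ∀ n (x : MvPowerSeries (Fin d) B),
      x ∈ ((maximalIdeal B).map (C : B →+* MvPowerSeries (Fin d) B)) ^ n ↔ ∀ m, coeff m x ∈ maximalIdeal B ^ n :=
    fun n x => by rw [← Ideal.map_pow]; exact mem_map_C_iff (IsNoetherian.noetherian _)
  have hL : ∀ m, ∃ L : B, ∀ n, coeff m (f n) ≡ L [SMOD (maximalIdeal B ^ n • ⊤ : Submodule B B)] := fun m =>
    IsPrecomplete.prec inferInstance fun {a b} hab => by
      have := hf hab
      rw [SModEq.sub_mem, smul_eq_mul, Ideal.mul_top] at this ⊢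
      rw [← map_sub]
      exact (hmem a _).mp this m
  choose L hL using hL
  refine ⟨(fun m => L m : MvPowerSeries (Fin d) B), fun n => ?_⟩
  rw [SModEq.sub_mem, smul_eq_mul, Ideal.mul_top, hmem]
  intro m
  have := hL m n
  rw [SModEq.sub_mem, smul_eq_mul, Ideal.mul_top] at this
  rwa [map_sub]

theorem maximalIdeal_eq_sup :
    maximalIdeal (MvPowerSeries (Fin d) B) =
      (maximalIdeal B).map C ⊔ Ideal.span (Set.range X) := by
  refine le_antisymm (CohenStruct.maximalIdeal_mvPowerSeries_le d) (sup_le ?_ (Ideal.span_le.mpr ?_))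
  · refine Ideal.map_le_iff_le_comap.mpr fun b hb => ?_
    rw [Ideal.mem_comap, mem_maximalIdeal, mem_nonunits_iff, isUnit_iff_constantCoeff, constantCoeff_C]
    exact hb
  · rintro _ ⟨i, rfl⟩
    rw [SetLike.mem_coe, mem_maximalIdeal, mem_nonunits_iff, isUnit_iff_constantCoeff]
    simp

theorem isAdicComplete_maximalIdeal [IsAdicComplete (maximalIdeal B) B] :
    IsAdicComplete (maximalIdeal (MvPowerSeries (Fin d) B)) (MvPowerSeries (Fin d) B) := by
  set T := MvPowerSeries (Fin d) B
  set Ib := (maximalIdeal B).map (C : B →+* T)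
  set Ix := Ideal.span (Set.range (X : Fin d → T))
  set 𝔟 := maximalIdeal T with hb
  have hH : IsHausdorff 𝔟 T := IsHausdorff.of_le_jacobson 𝔟 T (IsLocalRing.jacobson_eq_maximalIdeal ⊥ bot_ne_top).ge
  have hPb : IsPrecomplete Ib T := isPrecomplete_map_C
  refine { prec' := fun f hf => ?_ }
  have hsup : 𝔟 = Ib ⊔ Ix := maximalIdeal_eq_sup
  have hf' : ∀ {a c : ℕ}, a ≤ c → f a - f c ∈ 𝔟 ^ a := fun {a c} hac => by
    have := hf hac
    rwa [SModEq.sub_mem, smul_eq_mul, Ideal.mul_top] at this
  have hdec : ∀ n, ∃ g ∈ Ib ^ n, ∃ h ∈ Ix ^ n, g + h = f (2 * (n + 1)) - f (2 * n) := fun n => by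
    refine Submodule.mem_sup.mp (Ideal.sup_pow_add_le_pow_sup_pow ?_)
    rw [← two_mul, ← hsup, ← neg_sub]
    exact neg_mem (hf' (by omega))
  choose g hg h hh hgh using hdec
  have hsum : ∀ (J : Ideal T) (u : ℕ → T), (∀ n, u n ∈ J ^ n) → IsPrecomplete J T →
      ∃ U : T, ∀ n, U - ∑ i ∈ Finset.range n, u i ∈ J ^ n := by
    intro J u hu hP
    obtain ⟨U, hU⟩ := hP.prec (f := fun n => ∑ i ∈ Finset.range n, u i) fun {a c} hac => by
      rw [SModEq.sub_mem, smul_eq_mul, Ideal.mul_top, ← neg_sub, neg_mem_iff,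
        ← Finset.sum_Ico_eq_sub _ hac]
      exact Submodule.sum_mem _ fun i hi => Ideal.pow_le_pow_right (Finset.mem_Ico.mp hi).1 (hu i)
    refine ⟨U, fun n => ?_⟩
    have := hU n
    rw [SModEq.sub_mem, smul_eq_mul, Ideal.mul_top] at this
    rw [← neg_sub]
    exact neg_mem this
  obtain ⟨G, hG⟩ := hsum Ib g hg hPb
  obtain ⟨H, hH'⟩ := hsum Ix h hh inferInstance
  refine ⟨f 0 + G + H, fun n => ?_⟩
  rw [SModEq.sub_mem, smul_eq_mul, Ideal.mul_top]
  have htel : f (2 * n) = f 0 + ∑ i ∈ Finset.range n, g i + ∑ i ∈ Finset.range n, h i := by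
    rw [add_assoc, ← Finset.sum_add_distrib, Finset.sum_congr rfl fun i _ => hgh i,
      Finset.sum_range_sub (fun i => f (2 * i))]
    simp
  have h1 : G - ∑ i ∈ Finset.range n, g i ∈ 𝔟 ^ n :=
    Ideal.pow_right_mono (hsup.ge.trans' le_sup_left) n (hG n)
  have h2 : H - ∑ i ∈ Finset.range n, h i ∈ 𝔟 ^ n :=
    Ideal.pow_right_mono (hsup.ge.trans' le_sup_right) n (hH' n)
  have e : f n - (f 0 + G + H) = (f n - f (2 * n)) - ((G - ∑ i ∈ Finset.range n, g i) + (H - ∑ i ∈ Finset.range n, h i)) := by
    rw [htel]; ring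
  rw [e]
  exact sub_mem (hf' (by omega)) (add_mem h1 h2)

omit [IsLocalRing B] [IsNoetherianRing B] in
/-- `B[[x]]` is flat over `k[[x]]`. -/
theorem flat_powerSeries {k : Type u} [Field k] [Algebra k B] :
    Module.Flat (MvPowerSeries (Fin d) k) (MvPowerSeries (Fin d) B) := by
  classical
  let R := MvPowerSeries (Fin d) k
  let T := MvPowerSeries (Fin d) B
  let b := Module.Basis.ofVectorSpace k B
  let ι := Module.Basis.ofVectorSpaceIndex k B
  let co : B →ₗ[k] (ι → k) := LinearMap.pi fun c => b.coord c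
  have hco : LinearMap.ker co = ⊥ := LinearMap.ker_eq_bot'.mpr fun x hx =>
    b.repr.map_eq_zero_iff.mp (Finsupp.ext fun c => congrFun hx c)
  obtain ⟨ρ, hρ⟩ := co.exists_leftInverse_of_injective hco
  refine Module.Flat.of_forall_isTrivialRelation fun {l f x} hfx => ?_
  let F : (Fin l → R) →ₗ[R] R := Fintype.linearCombination R f
  obtain ⟨s, a, ha⟩ := Submodule.fg_iff_exists_fin_generating_family.mp (IsNoetherian.noetherian (LinearMap.ker F))
  -- the coordinates of the relation
  let π : ι → T → R := fun c t m => b.coord c (coeff m t)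
  have hπ : ∀ c t m, coeff m (π c t) = b.coord c (coeff m t) := fun _ _ _ => rfl
  have hπs : ∀ c (r : R) (t : T), π c (r • t) = r * π c t := fun c r t => MvPowerSeries.ext fun m => by
    rw [hπ, Algebra.smul_def, coeff_mul, coeff_mul, map_sum]
    refine Finset.sum_congr rfl fun q _ => ?_
    rw [hπ, MvPowerSeries.algebraMap_apply'', coeff_map, ← Algebra.smul_def, map_smul, smul_eq_mul]
  have hker : ∀ c, ∃ y : Fin s → R, ∑ j, y j • a j = fun i => π c (x i) := fun c => by
    refine (Submodule.mem_span_range_iff_exists_fun R).mp (ha.ge ?_)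
    rw [LinearMap.mem_ker, Fintype.linearCombination_apply]
    refine MvPowerSeries.ext fun m => ?_
    have h0 := congrArg (fun t : T => b.coord c (coeff m t)) hfx
    simp only [map_sum, map_zero] at h0 ⊢
    refine Eq.trans (Finset.sum_congr rfl fun i _ => ?_) h0
    rw [smul_eq_mul, mul_comm, ← hπs, hπ]
  choose y hy using hker
  let Y : Fin s → T := fun j m => ρ fun c => coeff m (y c j)
  refine ⟨s, fun i j => a j i, Y, fun i => MvPowerSeries.ext fun m => ?_, fun j => ?_⟩
  · have hrec : coeff m (x i) = ρ (fun c => coeff m (π c (x i))) :=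
      (LinearMap.congr_fun hρ (coeff m (x i))).symm
    have hcomp : (fun c => coeff m (π c (x i))) = ∑ j, fun c => coeff m (a j i * y c j) := by
      funext c
      rw [Finset.sum_apply, ← map_sum, ← congrFun (hy c) i]
      simp [mul_comm]
    rw [hrec, hcomp, map_sum, map_sum]
    refine Finset.sum_congr rfl fun j _ => ?_
    rw [Algebra.smul_def, coeff_mul]
    have hsmul : ∀ (u : k) (w : ι → k), algebraMap k B u * ρ w = ρ (u • w) := fun u w => by
      rw [map_smul, Algebra.smul_def]
    simp only [MvPowerSeries.algebraMap_apply'', coeff_map]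
    refine Eq.trans ?_ (Finset.sum_congr rfl fun q _ => (hsmul _ (fun c => coeff q.2 (y c j))).symm)
    rw [← map_sum]
    congr 1
    funext c
    rw [Finset.sum_apply, coeff_mul]
    rfl
  · have : a j ∈ LinearMap.ker F := ha.le (Submodule.subset_span ⟨j, rfl⟩)
    simpa [F, Fintype.linearCombination_apply, mul_comm] using this

end Groth.Agent.CTensorRed
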