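import Groth.Agent.CTensorRed.Main
import Groth.Agent.ComplDeriv.CharZeroRank
import Groth.Agent.ComplDeriv.Unram
import Groth.Agent.CohenStruct.Structure
import Mathlib.LinearAlgebra.LinearIndependent.Lemmas
import Mathlib.RingTheory.Ideal.Quotient.Operations
import Mathlib.LinearAlgebra.TensorProduct.Pi
import Mathlib.FieldTheory.Perfect

/-!
# The completed tensor product of reduced complete local algebras over a perfect field
-/

universe u

open IsLocalRing MvPowerSeries TensorProduct
open Algebra.TensorProduct (includeLeft includeRight)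

namespace Groth.Agent.CTensorRed

/-- A finite torsion-free module over a domain embeds into a finite free module. -/
theorem exists_free_embedding (P : Type u) [CommRing P] [IsDomain P] (N : Type u) [AddCommGroup N] [Module P N]
    [Module.Finite P N] (htf : ∀ (r : P) (x : N), r • x = 0 → r = 0 ∨ x = 0) :
    ∃ (n : ℕ) (e : N →ₗ[P] (Fin n → P)), Function.Injective e := by
  classical
  obtain ⟨l, g, hg⟩ := Module.Finite.exists_fin (R := P) (M := N)
  obtain ⟨s, hs, hmax⟩ := exists_maximal_linearIndepOn P g
  choose! a ha0 hamem using hmax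
  let c := ∏ i ∈ Finset.univ.filter (· ∉ s), a i
  have hc : c ≠ 0 := Finset.prod_ne_zero_iff.mpr fun i hi => ha0 i (Finset.mem_filter.mp hi).2
  let W := Submodule.span P (Set.range fun i : s => g i)
  have hW : ∀ x : N, c • x ∈ W := by
    intro x
    induction (hg ▸ Submodule.mem_top (x := x) : x ∈ Submodule.span P (Set.range g)) using
      Submodule.span_induction with
    | mem y hy =>
      obtain ⟨i, rfl⟩ := hy
      by_cases hi : i ∈ s
      · exact W.smul_mem _ (Submodule.subset_span ⟨⟨i, hi⟩, rfl⟩)
      · obtain ⟨e, he⟩ : a i ∣ c := Finset.dvd_prod_of_mem a (Finset.mem_filter.mpr ⟨Finset.mem_univ _, hi⟩)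
        rw [he, mul_comm, mul_smul]
        refine W.smul_mem _ ?_
        have := hamem i hi
        rwa [Set.image_eq_range] at this
    | zero => simp
    | add u v _ _ hu hv => rw [smul_add]; exact add_mem hu hv
    | smul r u _ hu => rw [smul_comm]; exact W.smul_mem _ hu
  let bW : Module.Basis s P W := Module.Basis.span hs
  let eW : W ≃ₗ[P] (s → P) := bW.equivFun
  refine ⟨Fintype.card s, (LinearMap.funLeft P P (Fintype.equivFin s).symm) ∘ₗ eW.toLinearMap ∘ₗ
    LinearMap.codRestrict W (c • LinearMap.id) hW, ?_⟩
  rw [LinearMap.coe_comp, LinearMap.coe_comp]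
  refine (LinearMap.funLeft_injective_of_surjective P P _ (Equiv.surjective _)).comp
    (eW.injective.comp fun x y hxy => ?_)
  have h : c • x = c • y := congrArg Subtype.val hxy
  rw [← sub_eq_zero, ← smul_sub] at h
  exact sub_eq_zero.mp ((htf _ _ h).resolve_left hc)

/-- Tensoring a jointly injective family with a submodule of a free module keeps it jointly injective. -/
theorem eq_zero_of_forall_rTensor {P : Type u} [CommRing P] {T : Type u} [AddCommGroup T] [Module P T]
    [Module.Flat P T] {ι : Type*} {T' : ι → Type u} [∀ i, AddCommGroup (T' i)] [∀ i, Module P (T' i)]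
    (j : ∀ i, T →ₗ[P] T' i) (hj : ∀ t, (∀ i, j i t = 0) → t = 0) {N : Type u} [AddCommGroup N] [Module P N]
    {n : ℕ} (e : N →ₗ[P] (Fin n → P)) (he : Function.Injective e) (x : T ⊗[P] N)
    (hx : ∀ i, (j i).rTensor N x = 0) : x = 0 := by
  classical
  refine (Module.Flat.lTensor_preserves_injective_linearMap (M := T) e he) ?_
  rw [map_zero]
  let p := TensorProduct.piScalarRight P P T (Fin n)
  refine p.map_eq_zero_iff.mp (funext fun t => hj _ fun i => ?_)
  have key : ∀ y : T ⊗[P] (Fin n → P), j i (p y t) =
      TensorProduct.piScalarRight P P (T' i) (Fin n) ((j i).rTensor _ y) t := fun y => by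
    induction y with
    | zero => simp
    | add a b ha hb => simp only [map_add, Pi.add_apply, ha, hb]
    | tmul a f => simp [p, map_smul]
  rw [key]
  have hcomm : ∀ y, (j i).rTensor _ (e.lTensor T y) = e.lTensor (T' i) ((j i).rTensor N y) := fun y => by
    induction y with
    | zero => simp
    | add a b ha hb => simp only [map_add, ha, hb]
    | tmul a f => simp
  rw [hcomm x, hx i, map_zero, map_zero, Pi.zero_apply]

variable {k A B : Type u} [Field k] [CommRing A] [CommRing B] [Algebra k A] [Algebra k B]
  {d : ℕ} [Algebra (MvPowerSeries (Fin d) k) A] [IsScalarTower k (MvPowerSeries (Fin d) k) A]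
  [Module.Finite (MvPowerSeries (Fin d) k) A]

local notation "R" => MvPowerSeries (Fin d) k

/-- For a generically unramified normalisation of a domain the model is reduced. -/
theorem isReduced_model [IsDomain A] [IsReduced B] (hinj : Function.Injective (algebraMap R A))
    [Algebra.IsUnramifiedAt R (⊥ : Ideal A)] : IsReduced (Model k A B d) := by
  classical
  let T := MvPowerSeries (Fin d) B
  have : IsDomain R := NoZeroDivisors.to_isDomain _
  have := flat_powerSeries (B := B) (d := d) (k := k)
  obtain ⟨n, e, he⟩ := exists_free_embedding R A fun r x h => by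
    rw [Algebra.smul_def, mul_eq_zero, map_eq_zero_iff _ hinj] at h
    exact h
  -- the generic points of the factors
  let Tq : PrimeSpectrum B → Type u := fun q => MvPowerSeries (Fin d) (B ⧸ q.asIdeal)
  have : ∀ q, IsDomain (Tq q) := fun q => NoZeroDivisors.to_isDomain _
  let F : PrimeSpectrum B → Type u := fun q => FractionRing (Tq q)
  have hflat : ∀ q, Module.Flat R (F q) := fun q => by
    have := flat_powerSeries (B := B ⧸ q.asIdeal) (d := d) (k := k)
    have : Module.Flat (Tq q) (F q) := IsLocalization.flat _ (nonZeroDivisors (Tq q))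
    exact Module.Flat.trans R (Tq q) (F q)
  let j : ∀ q, T →ₐ[R] F q := fun q =>
    (IsScalarTower.toAlgHom R (Tq q) (F q)).comp
      { MvPowerSeries.map (Ideal.Quotient.mk q.asIdeal) with
        commutes' := fun r => MvPowerSeries.ext fun m => by
          show coeff m (MvPowerSeries.map _ (MvPowerSeries.map (algebraMap k B) r)) = coeff m (MvPowerSeries.map (algebraMap k (B ⧸ q.asIdeal)) r)
          rw [coeff_map, coeff_map, coeff_map]
          rfl }
  have hj : ∀ t, (∀ q, (j q).toLinearMap t = 0) → t = 0 := by
    intro t ht
    refine MvPowerSeries.ext fun m => ?_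
    rw [map_zero]
    refine IsReduced.eq_zero _ ((nilpotent_iff_mem_prime).mpr fun q hq => ?_)
    have h := ht ⟨q, hq⟩
    change algebraMap (Tq ⟨q, hq⟩) (F ⟨q, hq⟩) (MvPowerSeries.map (Ideal.Quotient.mk q) t) = 0 at h
    rw [map_eq_zero_iff _ (IsFractionRing.injective _ _)] at h
    have hm := congrArg (coeff m) h
    rw [coeff_map, map_zero] at hm
    exact Ideal.Quotient.eq_zero_iff_mem.mp hm
  let L := Localization.AtPrime (⊥ : Ideal A)
  let Φ : ∀ q, Model k A B d →ₐ[R] F q ⊗[R] L := fun q =>
    Algebra.TensorProduct.map (j q) (IsScalarTower.toAlgHom R A L)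
  have hAL : Function.Injective (IsScalarTower.toAlgHom R A L).toLinearMap :=
    IsLocalization.injective L (Ideal.primeCompl_le_nonZeroDivisors (⊥ : Ideal A))
  have : ∀ q, IsReduced (F q ⊗[R] L) := fun q => by
    have : Algebra.EssFiniteType A L := Algebra.EssFiniteType.of_isLocalization L (⊥ : Ideal A).primeCompl
    have : Algebra.EssFiniteType R L := Algebra.EssFiniteType.comp R A L
    exact Algebra.FormallyUnramified.isReduced_of_field (F q) (F q ⊗[R] L)
  refine ⟨fun x hx => eq_zero_of_forall_rTensor (fun q => (j q).toLinearMap) hj e he x fun q => ?_⟩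
  have h0 : Φ q x = 0 := IsReduced.eq_zero _ (by
    obtain ⟨N, hN⟩ := hx
    exact ⟨N, by
      have h1 := congrArg (Φ q).toRingHom hN
      rw [RingHom.map_pow, RingHom.map_zero] at h1
      exact h1⟩)
  have hfac : ∀ y, Φ q y = (IsScalarTower.toAlgHom R A L).toLinearMap.lTensor (F q) ((j q).toLinearMap.rTensor A y) := by
    intro y
    induction y using TensorProduct.induction_on with
    | zero => simp
    | add a b ha hb => rw [map_add, map_add, map_add, ha, hb]
    | tmul a b => rfl
  have := hflat q
  refine Module.Flat.lTensor_preserves_injective_linearMap (M := F q) _ hAL ?_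
  rw [map_zero, ← hfac, h0]

omit [Algebra (MvPowerSeries (Fin d) k) A] [IsScalarTower k (MvPowerSeries (Fin d) k) A]
  [Module.Finite (MvPowerSeries (Fin d) k) A] in
/-- A generically unramified normalisation. -/
theorem exists_normalization (k A : Type u) [Field k] [PerfectField k] [CommRing A] [IsDomain A] [IsLocalRing A]
    [IsNoetherianRing A] [Algebra k A] [IsAdicComplete (maximalIdeal A) A] [Module.Finite k (ResidueField A)] :
    ∃ (e : ℕ) (_ : Algebra (MvPowerSeries (Fin e) k) A) (_ : IsScalarTower k (MvPowerSeries (Fin e) k) A)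
      (_ : Module.Finite (MvPowerSeries (Fin e) k) A),
      (∀ i, algebraMap (MvPowerSeries (Fin e) k) A (X i) ∈ maximalIdeal A) ∧
      Function.Injective (algebraMap (MvPowerSeries (Fin e) k) A) ∧
      Algebra.IsUnramifiedAt (MvPowerSeries (Fin e) k) (⊥ : Ideal A) := by
  classical
  obtain ⟨e, f, he, hfi, hff, hfC⟩ := ComplDeriv.exists_finite_injective_powerSeries k A
  by_cases hp : (⊥ : Ideal A) = maximalIdeal A
  · -- a field, finite separable over `k`
    have hA : IsField A := IsLocalRing.isField_iff_maximalIdeal_eq.mpr hp.symm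
    have : Subsingleton (Fin e) := by
      have h0 := ringKrullDim_eq_zero_of_isField hA
      rw [he] at h0
      norm_cast at h0
      subst h0
      infer_instance
    let _ : Algebra (MvPowerSeries (Fin e) k) A := f.toAlgebra
    have : IsScalarTower k (MvPowerSeries (Fin e) k) A := IsScalarTower.of_algebraMap_eq fun c => (hfC c).symm
    have : Module.Finite (MvPowerSeries (Fin e) k) A := hff
    refine ⟨e, inferInstance, inferInstance, inferInstance, fun i => ?_, hfi, ?_⟩
    · have h0 := ringKrullDim_eq_zero_of_isField hA
      rw [he] at h0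
      norm_cast at h0
      subst h0
      exact i.elim0
    · let _ : Field A := hA.toField
      have : Module.Finite k A := Module.Finite.of_surjective
        ({ toFun := fun x => (RingEquiv.ofBijective (residue A) ⟨RingHom.injective _, residue_surjective⟩).symm x
           map_add' := map_add _
           map_smul' := fun c x => by
            apply (RingEquiv.ofBijective (residue A) ⟨RingHom.injective _, residue_surjective⟩).injective
            rw [RingEquiv.apply_symm_apply, RingHom.id_apply, Algebra.smul_def, Algebra.smul_def, map_mul,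
              RingEquiv.apply_symm_apply]
            rfl } : ResidueField A →ₗ[k] A) (RingEquiv.surjective _)
      have : Algebra.IsSeparable k A := Algebra.IsAlgebraic.isSeparable_of_perfectField
      have : Algebra.FormallyUnramified k A := Algebra.FormallyUnramified.of_isSeparable k A
      have : Algebra.FormallyUnramified (MvPowerSeries (Fin e) k) A :=
        Algebra.FormallyUnramified.of_restrictScalars k _ _
      have : Algebra.FormallyUnramified A (Localization.AtPrime (⊥ : Ideal A)) :=
        Algebra.FormallyUnramified.of_isLocalization (⊥ : Ideal A).primeCompl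
      exact Algebra.FormallyUnramified.comp (MvPowerSeries (Fin e) k) A _
  have hV : Module.finrank (⊥ : Ideal A).ResidueField ((⊥ : Ideal A).ResidueField ⊗[A] ComplDeriv.Om k A) ≤ e := by
    have hbot : IsField (Localization.AtPrime (⊥ : Ideal A)) := by
      have : IsFractionRing A (Localization.AtPrime (⊥ : Ideal A)) := by
        show IsLocalization _ _
        rw [← Ideal.primeCompl_bot]
        infer_instance
      exact (IsFractionRing.toField A (K := Localization.AtPrime (⊥ : Ideal A))).toIsField
    let _ : Field (Localization.AtPrime (⊥ : Ideal A)) := hbot.toField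
    have hdim : ringKrullDim (A ⧸ (⊥ : Ideal A)) = e :=
      (ringKrullDim_eq_of_ringEquiv (RingEquiv.quotientBot A)).trans he
    have h0 : ringKrullDim (Localization.AtPrime (⊥ : Ideal A)) = 0 := ringKrullDim_eq_zero_of_field _
    rcases CharP.exists k with ⟨p, hpk⟩
    rcases CharP.char_is_prime_or_zero k p with hpp | rfl
    · have : Fact p.Prime := ⟨hpp⟩
      have : ExpChar k p := ExpChar.prime hpp
      have : PerfectRing k p := PerfectField.toPerfectRing p
      have hΩ : Subsingleton Ω[k⁄ℤ] := by
        refine subsingleton_of_forall_eq 0 fun x => ?_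
        induction (KaehlerDifferential.span_range_derivation ℤ k).ge (Submodule.mem_top (x := x))
          using Submodule.span_induction with
        | mem y hy =>
          obtain ⟨c, rfl⟩ := hy
          obtain ⟨z, rfl⟩ := surjective_frobenius k p c
          rw [frobenius_def, Derivation.leibniz_pow, ← Nat.cast_smul_eq_nsmul k, CharP.cast_eq_zero, zero_smul]
        | zero => rfl
        | add a b _ _ ha hb => rw [ha, hb, add_zero]
        | smul c a _ ha => rw [ha, smul_zero]
      have hinj : ComplDeriv.KInj k (Localization.AtPrime (⊥ : Ideal A)) := by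
        have : Subsingleton (Localization.AtPrime (⊥ : Ideal A) ⊗[k] Ω[k⁄ℤ]) := inferInstance
        exact Function.injective_of_subsingleton _
      have h := ComplDeriv.finrank_fibre_le_charP k A p (RingHom.Finite.of_surjective _ (surjective_frobenius k p))
        ⊥ hinj e hdim
      rw [h0, zero_add] at h
      exact_mod_cast h
    · have : CharZero k := CharP.charP_to_charZero k
      have h := ComplDeriv.finrank_fibre_le_charZero k A ⊥ e hdim
      rw [h0, zero_add] at h
      exact_mod_cast h
  obtain ⟨_, _, hloc, hfin, hu⟩ := ComplDeriv.exists_unramified k A ⊥ hp e he.le hV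
  refine ⟨e, inferInstance, inferInstance, hfin, fun i => ?_, ?_, hu⟩
  · refine (mem_maximalIdeal _).mpr fun hunit => ?_
    have := isUnit_of_map_unit (algebraMap (MvPowerSeries (Fin e) k) A) _ hunit
    rw [MvPowerSeries.isUnit_iff_constantCoeff, constantCoeff_X] at this
    exact not_isUnit_zero this
  · have : IsDomain (MvPowerSeries (Fin e) k) := NoZeroDivisors.to_isDomain _
    have hPdim := CohenStruct.ringKrullDim_mvPowerSeries_le (Λ := k) e ∅
      (by rw [Finset.coe_empty, Ideal.span_empty]; exact IsLocalRing.isField_iff_maximalIdeal_eq.mp (Field.toIsField k))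
    exact CohenStruct.injective_of_finite_of_dim _ (RingHom.finite_algebraMap.mpr hfin) (by simpa using hPdim) he.ge

/-- The completed tensor product of reduced complete local algebras over a perfect field is reduced. -/
theorem isReduced_cTensor (k A B : Type u) [Field k] [PerfectField k] [CommRing A] [CommRing B] [Algebra k A]
    [Algebra k B] [IsNoetherianRing A] [IsNoetherianRing B] [IsLocalRing A] [IsLocalRing B]
    [IsAdicComplete (maximalIdeal A) A] [IsAdicComplete (maximalIdeal B) B] [Module.Finite k (ResidueField A)]
    [IsReduced A] [IsReduced B] : IsReduced (EGA4.CTensor k A B) := by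
  classical
  obtain ⟨r, a, hr⟩ := Submodule.fg_iff_exists_fin_generating_family.mp (IsNoetherian.noetherian (maximalIdeal A))
  have ha : ∀ i, a i ∈ maximalIdeal A := fun i => hr ▸ Submodule.subset_span ⟨i, rfl⟩
  let f : MvPowerSeries (Fin r) k →+* A := CohenStruct.evalPS (maximalIdeal A) (algebraMap k A) a ha
  have hfin : f.Finite := CohenStruct.evalPS_finite (algebraMap k A) a ha
    (ComplDeriv.finite_quotient_of_pow_le k A _ (Ideal.span_le.mpr (Set.range_subset_iff.mpr ha)) (N := 1)
      (by rw [pow_one]; exact hr.ge))
  let _ : Algebra (MvPowerSeries (Fin r) k) A := f.toAlgebra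
  have : IsScalarTower k (MvPowerSeries (Fin r) k) A :=
    IsScalarTower.of_algebraMap_eq fun c => (CohenStruct.evalPS_C _ _ a ha c).symm
  have : Module.Finite (MvPowerSeries (Fin r) k) A := hfin
  have hX : ∀ i, algebraMap (MvPowerSeries (Fin r) k) A (X i) ∈ maximalIdeal A := fun i => by
    show f (X i) ∈ _
    rw [show f (X i) = a i from CohenStruct.evalPS_X _ _ a ha i]
    exact ha i
  obtain ⟨Ψ, hΨ⟩ := (exists_injective k A B r hX).1
  let P := MvPowerSeries (Fin r) k
  let T := MvPowerSeries (Fin r) B
  have := flat_powerSeries (B := B) (d := r) (k := k)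
  have : Fintype (minimalPrimes A) := (minimalPrimes.finite_of_isNoetherianRing A).fintype
  let π : ∀ p : minimalPrimes A, T ⊗[P] A →ₐ[P] T ⊗[P] (A ⧸ p.1) := fun p =>
    Algebra.TensorProduct.map (AlgHom.id P T) (Ideal.Quotient.mkₐ P p.1)
  suffices h : IsReduced (T ⊗[P] A) from isReduced_of_injective Ψ hΨ
  refine ⟨fun x hx => ?_⟩
  -- the factors at the minimal primes
  have hzero : ∀ p, π p x = 0 := fun p => by
    have : p.1.IsPrime := p.2.isPrime
    obtain ⟨_, _, _⟩ := ComplDeriv.quotient_data k A p.1
    have hX' : ∀ i, algebraMap P (A ⧸ p.1) (X i) ∈ maximalIdeal (A ⧸ p.1) := fun i => by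
      rw [IsScalarTower.algebraMap_apply P A (A ⧸ p.1), Ideal.Quotient.algebraMap_eq]
      have : IsLocalHom (Ideal.Quotient.mk p.1) := IsLocalHom.of_surjective _ Ideal.Quotient.mk_surjective
      exact map_nonunit (Ideal.Quotient.mk p.1) _ (hX i)
    obtain ⟨G, hG⟩ := (exists_injective k (A ⧸ p.1) B r hX').2
    obtain ⟨e, _, _, _, hXe, hinje, _⟩ := exists_normalization k (A ⧸ p.1)
    obtain ⟨Ψ', hΨ'⟩ := (exists_injective k (A ⧸ p.1) B e hXe).1
    have := isReduced_model (k := k) (A := A ⧸ p.1) (B := B) (d := e) hinje
    have : IsReduced (Model k (A ⧸ p.1) B r) := isReduced_of_injective (Ψ'.comp G) (hΨ'.comp hG)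
    exact IsReduced.eq_zero _ (hx.map (π p))
  let u : A →ₗ[P] ∀ p : minimalPrimes A, A ⧸ p.1 := LinearMap.pi fun p => (Ideal.Quotient.mkₐ P p.1).toLinearMap
  have hu : Function.Injective u := (injective_iff_map_eq_zero _).mpr fun y hy => by
    refine IsReduced.eq_zero _ ?_
    rw [← mem_nilradical, nilradical, ← Ideal.sInf_minimalPrimes, Ideal.mem_sInf]
    intro q hq
    exact Ideal.Quotient.eq_zero_iff_mem.mp (congrFun hy ⟨q, hq⟩)
  refine Module.Flat.lTensor_preserves_injective_linearMap (M := T) u hu ?_
  rw [map_zero]
  refine (TensorProduct.piRight P P T fun p : minimalPrimes A => A ⧸ p.1).map_eq_zero_iff.mp (funext fun p => ?_)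
  have key : ∀ y, TensorProduct.piRight P P T (fun p : minimalPrimes A => A ⧸ p.1) (u.lTensor T y) p = π p y := by
    intro y
    induction y using TensorProduct.induction_on with
    | zero => simp
    | add y z hy hz => rw [map_add, map_add, Pi.add_apply, hy, hz, map_add]
    | tmul t a => rfl
  rw [key, hzero]
  rfl

end Groth.Agent.CTensorRed
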